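import Cfsg.Agent.Comp.Defs

set_option autoImplicit false
set_option maxRecDepth 1000000
set_option maxHeartbeats 0
set_option Elab.async false

namespace CF.Comp.J1

noncomputable def M0 : List (List (List Nat)) := [[[1, 0, 0, 0, 0, 0, 0], [0, 1, 0, 0, 0, 0, 0], [0, 0, 1, 0, 0, 0, 0], [0, 0, 0, 1, 0, 0, 0], [0, 0, 0, 0, 1, 0, 0], [0, 0, 0, 0, 0, 1, 0], [0, 0, 0, 0, 0, 0, 1]],
  [[0, 1, 0, 0, 0, 0, 0], [0, 0, 1, 0, 0, 0, 0], [0, 0, 0, 1, 0, 0, 0], [0, 0, 0, 0, 1, 0, 0], [0, 0, 0, 0, 0, 1, 0], [0, 0, 0, 0, 0, 0, 1], [1, 0, 0, 0, 0, 0, 0]],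
  [[0, 0, 0, 0, 0, 0, 1], [1, 0, 0, 0, 0, 0, 0], [0, 1, 0, 0, 0, 0, 0], [0, 0, 1, 0, 0, 0, 0], [0, 0, 0, 1, 0, 0, 0], [0, 0, 0, 0, 1, 0, 0], [0, 0, 0, 0, 0, 1, 0]],
  [[8, 2, 10, 10, 8, 10, 8], [9, 1, 1, 3, 1, 3, 3], [10, 10, 8, 10, 8, 8, 2], [10, 8, 10, 8, 8, 2, 10], [8, 10, 8, 8, 2, 10, 10], [1, 3, 3, 9, 1, 1, 3], [3, 3, 9, 1, 1, 3, 1]],
  [[8, 9, 10, 10, 8, 1, 3], [2, 1, 10, 8, 10, 3, 3], [10, 1, 8, 10, 8, 3, 9], [10, 3, 10, 8, 8, 9, 1], [8, 1, 8, 8, 2, 1, 1], [10, 3, 8, 2, 10, 1, 3], [8, 3, 2, 10, 10, 3, 1]]]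
noncomputable def M1 : List (List (List Nat)) := [[[1, 0, 0, 0, 0, 0, 0], [0, 1, 0, 0, 0, 0, 0], [0, 0, 1, 0, 0, 0, 0], [0, 0, 0, 1, 0, 0, 0], [0, 0, 0, 0, 1, 0, 0], [0, 0, 0, 0, 0, 1, 0], [0, 0, 0, 0, 0, 0, 1]],
  [[10, 0, 0, 0, 0, 0, 0], [0, 10, 0, 0, 0, 0, 0], [0, 0, 1, 0, 0, 0, 0], [0, 0, 0, 1, 0, 0, 0], [0, 0, 0, 0, 10, 0, 0], [0, 0, 0, 0, 0, 1, 0], [0, 0, 0, 0, 0, 0, 10]],
  [[10, 0, 0, 0, 0, 0, 0], [0, 10, 0, 0, 0, 0, 0], [0, 0, 1, 0, 0, 0, 0], [0, 0, 0, 1, 0, 0, 0], [0, 0, 0, 0, 10, 0, 0], [0, 0, 0, 0, 0, 1, 0], [0, 0, 0, 0, 0, 0, 10]],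
  [[6, 10, 5, 8, 8, 4, 2], [1, 4, 2, 8, 6, 6, 3], [9, 3, 1, 6, 6, 6, 0], [6, 7, 5, 4, 4, 8, 2], [8, 10, 0, 9, 9, 9, 1], [7, 8, 3, 2, 4, 1, 10], [3, 2, 6, 0, 7, 3, 9]],
  [[6, 1, 9, 6, 8, 7, 3], [10, 4, 3, 7, 10, 8, 2], [5, 2, 1, 5, 0, 3, 6], [8, 8, 6, 4, 9, 2, 0], [8, 6, 6, 4, 9, 4, 7], [4, 6, 6, 8, 9, 1, 3], [2, 3, 0, 2, 1, 10, 9]]]
noncomputable def AW : List (List Nat) := [[(nat_lit 1), (nat_lit 3), (nat_lit 1), (nat_lit 4)],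
  [(nat_lit 1), (nat_lit 3), (nat_lit 3), (nat_lit 2), (nat_lit 3), (nat_lit 1), (nat_lit 1), (nat_lit 3), (nat_lit 1)]]
noncomputable def XW : List (List Nat) := [[(nat_lit 1), (nat_lit 3), (nat_lit 1), (nat_lit 4), (nat_lit 1), (nat_lit 4), (nat_lit 1), (nat_lit 3), (nat_lit 1), (nat_lit 4), (nat_lit 1), (nat_lit 3), (nat_lit 1), (nat_lit 3), (nat_lit 1), (nat_lit 4), (nat_lit 1), (nat_lit 4), (nat_lit 1), (nat_lit 3), (nat_lit 1), (nat_lit 3), (nat_lit 1), (nat_lit 4), (nat_lit 1), (nat_lit 4), (nat_lit 1), (nat_lit 3), (nat_lit 1), (nat_lit 4), (nat_lit 1), (nat_lit 3), (nat_lit 1), (nat_lit 3), (nat_lit 1), (nat_lit 4), (nat_lit 1), (nat_lit 4), (nat_lit 1), (nat_lit 3), (nat_lit 1)],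
  [(nat_lit 1), (nat_lit 4), (nat_lit 1), (nat_lit 3), (nat_lit 1), (nat_lit 4), (nat_lit 1), (nat_lit 3), (nat_lit 1), (nat_lit 3), (nat_lit 1), (nat_lit 4), (nat_lit 1), (nat_lit 4), (nat_lit 1), (nat_lit 3), (nat_lit 1), (nat_lit 4), (nat_lit 1), (nat_lit 3), (nat_lit 1), (nat_lit 3), (nat_lit 1), (nat_lit 4)]]

end CF.Comp.J1
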