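import Cfsg.Agent.Comp.TCDefs

set_option autoImplicit false
set_option maxRecDepth 1000000
set_option maxHeartbeats 0
set_option Elab.async false

namespace CF.Comp.J1

noncomputable def rels : List (List Nat) := [[(nat_lit 1), (nat_lit 1)],
  [(nat_lit 3), (nat_lit 3), (nat_lit 3)],
  [(nat_lit 1), (nat_lit 3), (nat_lit 1), (nat_lit 3), (nat_lit 1), (nat_lit 3), (nat_lit 1), (nat_lit 3), (nat_lit 1), (nat_lit 3), (nat_lit 1), (nat_lit 3), (nat_lit 1), (nat_lit 3)],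
  [(nat_lit 1), (nat_lit 3), (nat_lit 1), (nat_lit 3), (nat_lit 1), (nat_lit 4), (nat_lit 1), (nat_lit 3), (nat_lit 1), (nat_lit 4), (nat_lit 1), (nat_lit 3), (nat_lit 1), (nat_lit 4), (nat_lit 1), (nat_lit 3), (nat_lit 1), (nat_lit 3), (nat_lit 1), (nat_lit 4), (nat_lit 1), (nat_lit 3), (nat_lit 1), (nat_lit 4), (nat_lit 1), (nat_lit 3), (nat_lit 1), (nat_lit 4), (nat_lit 1), (nat_lit 3), (nat_lit 1), (nat_lit 3), (nat_lit 1), (nat_lit 4), (nat_lit 1), (nat_lit 3), (nat_lit 1), (nat_lit 4), (nat_lit 1), (nat_lit 3), (nat_lit 1), (nat_lit 4), (nat_lit 1), (nat_lit 3), (nat_lit 1), (nat_lit 3), (nat_lit 1), (nat_lit 4), (nat_lit 1), (nat_lit 3), (nat_lit 1), (nat_lit 4), (nat_lit 1), (nat_lit 3), (nat_lit 1), (nat_lit 4), (nat_lit 1), (nat_lit 3), (nat_lit 1), (nat_lit 3), (nat_lit 1), (nat_lit 4), (nat_lit 1), (nat_lit 3), (nat_lit 1), (nat_lit 4), (nat_lit 1), (nat_lit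 3), (nat_lit 1), (nat_lit 4)],
  [(nat_lit 1), (nat_lit 3), (nat_lit 1), (nat_lit 3), (nat_lit 1), (nat_lit 4), (nat_lit 1), (nat_lit 3), (nat_lit 1), (nat_lit 4), (nat_lit 1), (nat_lit 3), (nat_lit 1), (nat_lit 4), (nat_lit 1), (nat_lit 3), (nat_lit 1), (nat_lit 4), (nat_lit 1), (nat_lit 3), (nat_lit 1), (nat_lit 4), (nat_lit 1), (nat_lit 3), (nat_lit 1), (nat_lit 4), (nat_lit 1), (nat_lit 3), (nat_lit 1), (nat_lit 3), (nat_lit 1), (nat_lit 4), (nat_lit 1), (nat_lit 4), (nat_lit 1), (nat_lit 3), (nat_lit 1), (nat_lit 3), (nat_lit 1), (nat_lit 4), (nat_lit 1), (nat_lit 3), (nat_lit 1), (nat_lit 4), (nat_lit 1), (nat_lit 3), (nat_lit 1), (nat_lit 4), (nat_lit 1), (nat_lit 3), (nat_lit 1), (nat_lit 4), (nat_lit 1), (nat_lit 3), (nat_lit 1), (nat_lit 4), (nat_lit 1), (nat_lit 3), (nat_lit 1), (nat_lit 4), (nat_lit 1), (nat_lit 3), (nat_lit 1), (nat_lit 3), (nat_lit 1), (nat_lit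 4), (nat_lit 1), (nat_lit 4)],
  [(nat_lit 1), (nat_lit 3), (nat_lit 1), (nat_lit 4), (nat_lit 1), (nat_lit 3), (nat_lit 1), (nat_lit 4), (nat_lit 1), (nat_lit 3), (nat_lit 1), (nat_lit 4), (nat_lit 1), (nat_lit 3), (nat_lit 1), (nat_lit 4), (nat_lit 1), (nat_lit 3), (nat_lit 1), (nat_lit 4), (nat_lit 1), (nat_lit 3), (nat_lit 1), (nat_lit 4), (nat_lit 1), (nat_lit 3), (nat_lit 1), (nat_lit 4), (nat_lit 1), (nat_lit 3), (nat_lit 1), (nat_lit 4), (nat_lit 1), (nat_lit 3), (nat_lit 1), (nat_lit 4), (nat_lit 1), (nat_lit 3), (nat_lit 1), (nat_lit 4), (nat_lit 1), (nat_lit 3), (nat_lit 1), (nat_lit 4), (nat_lit 1), (nat_lit 3), (nat_lit 1), (nat_lit 4), (nat_lit 1), (nat_lit 3), (nat_lit 1), (nat_lit 4), (nat_lit 1), (nat_lit 3), (nat_lit 1), (nat_lit 4), (nat_lit 1), (nat_lit 3), (nat_lit 1), (nat_lit 4), (nat_lit 1), (nat_lit 3), (nat_lit 1), (nat_lit 4), (nat_lit 1), (nat_lit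 3), (nat_lit 1), (nat_lit 4), (nat_lit 1), (nat_lit 3), (nat_lit 1), (nat_lit 4), (nat_lit 1), (nat_lit 3), (nat_lit 1), (nat_lit 4)]]

end CF.Comp.J1
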